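/-
A model of the plane over the field with four elements (`2` stands for a primitive cube root of unity):
transvections as normalised pairs and the operations on them used by the certificates.
-/
import Mathlib.Data.Fin.VecNotation
import Mathlib.GroupTheory.Perm.Basic

set_option autoImplicit false

namespace CfsgLib.Geo.D3.Four

/-- Coordinates of a vector or of a covector. -/
abbrev V := Fin 4 × Fin 4 × Fin 4

/-- A transvection: centre and axis. -/
abbrev T := V × V

/-- Sum in the field with four elements. -/
def add : Fin 4 → Fin 4 → Fin 4 := ![![0, 1, 2, 3], ![1, 0, 3, 2], ![2, 3, 0, 1], ![3, 2, 1, 0]]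

/-- Product in the field with four elements. -/
def mul : Fin 4 → Fin 4 → Fin 4 := ![![0, 0, 0, 0], ![0, 1, 2, 3], ![0, 2, 3, 1], ![0, 3, 1, 2]]

/-- Inverse in the field with four elements. -/
def inv : Fin 4 → Fin 4 := ![0, 1, 3, 2]

/-- Sum of vectors. -/
def vadd (u v : V) : V := (add u.1 v.1, add u.2.1 v.2.1, add u.2.2 v.2.2)

/-- Multiple of a vector. -/
def vsmul (c : Fin 4) (v : V) : V := (mul c v.1, mul c v.2.1, mul c v.2.2)

/-- The pairing. -/
def dot (f v : V) : Fin 4 := add (add (mul f.1 v.1) (mul f.2.1 v.2.1)) (mul f.2.2 v.2.2)

/-- The first nonzero coordinate. -/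
def lead (v : V) : Fin 4 := if v.1 = 0 then (if v.2.1 = 0 then v.2.2 else v.2.1) else v.1

/-- The point of a vector. -/
def normV (v : V) : V := vsmul (inv (lead v)) v

/-- The normal form of a transvection. -/
def normT (t : T) : T := (vsmul (inv (lead t.1)) t.1, vsmul (lead t.1) t.2)

/-- The transvection `t` conjugated by `s`. -/
def conjT (t s : T) : T :=
  normT (vadd t.1 (vsmul (dot s.2 t.1) s.1), vadd t.2 (vsmul (dot t.2 s.1) s.2))

/-- The image of a vector under a transvection. -/
def app (s : T) (x : V) : V := vadd x (vsmul (dot s.2 x) s.1)

/-- Two different transvections with the same centre and axis, the second the `c`-fold of the first. -/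
def clash (c : Fin 4) (s t : T) : Bool :=
  decide (c ≠ 0 ∧ c ≠ 1 ∧ t.1 = s.1 ∧ t.2 = vsmul c s.2)

/-- Two different transvections with the same centre and axis. -/
def flagClash (s t : T) : Bool := clash 2 s t || clash 3 s t

/-- The frame and a further transvection. -/
def gens (x : T) : List T :=
  [((1, 0, 0), (0, 1, 0)), ((0, 1, 0), (0, 0, 1)), ((1, 0, 0), (0, 0, 1)), x]

/-- Conjugations from a list, appended to it. -/
def derive (x : T) : List (Nat × Nat) → List T → List T
  | [], L => L
  | (i, j) :: r, L => derive x r (L ++ [conjT (L.getD i x) (L.getD j x)])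

/-- A certificate for one further transvection: conjugations, then either the number of an oval or a clash. -/
structure Cert where
  /-- the transvection -/
  x : T
  /-- the conjugations -/
  steps : List (Nat × Nat)
  /-- the oval, if there is no clash -/
  oval : Option (Fin 2)
  /-- the first transvection of a clash -/
  i : Nat
  /-- the second transvection of a clash -/
  j : Nat
  /-- the ratio of a clash -/
  c : Fin 4

/-- The product of two double transpositions, coded by its values. -/
def codeMul (a b : Equiv.Perm (Fin 6)) : Nat :=
  (a (b 0)).val + 6 * (a (b 1)).val + 36 * (a (b 2)).val + 216 * (a (b 3)).val + 1296 * (a (b 4)).val +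
    7776 * (a (b 5)).val

end CfsgLib.Geo.D3.Four
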