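/-
The two sets of forty-five transvections of the triple cover of the alternating group of degree six in
dimension three over four elements, their ovals, and the certificates (found by computer, checked in
`Cfsg.Agent.Geo.DimThree.Four.Checks`).
-/
import Cfsg.Agent.Geo.DimThree.Four.Model

set_option autoImplicit false
set_option maxRecDepth 10000

namespace CfsgLib.Geo.D3.Four

/-- The transvections. -/
def tvs : Fin 2 → List T :=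
  ![[
    ((0, 1, 0), (0, 0, 1)), ((0, 1, 0), (1, 0, 0)),
    ((0, 1, 0), (1, 0, 1)), ((0, 1, 2), (1, 3, 2)),
    ((0, 1, 2), (2, 3, 2)), ((0, 1, 2), (3, 0, 0)),
    ((0, 1, 3), (1, 2, 3)), ((0, 1, 3), (2, 0, 0)),
    ((0, 1, 3), (3, 2, 3)), ((1, 0, 0), (0, 0, 1)),
    ((1, 0, 0), (0, 1, 0)), ((1, 0, 0), (0, 1, 1)),
    ((1, 0, 2), (0, 3, 0)), ((1, 0, 2), (3, 1, 2)),
    ((1, 0, 2), (3, 2, 2)), ((1, 0, 3), (0, 2, 0)),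
    ((1, 0, 3), (2, 1, 3)), ((1, 0, 3), (2, 3, 3)),
    ((1, 1, 0), (0, 0, 1)), ((1, 1, 0), (1, 1, 0)),
    ((1, 1, 0), (1, 1, 1)), ((1, 1, 2), (1, 2, 2)),
    ((1, 1, 2), (2, 1, 2)), ((1, 1, 2), (3, 3, 0)),
    ((1, 1, 3), (1, 3, 3)), ((1, 1, 3), (2, 2, 0)),
    ((1, 1, 3), (3, 1, 3)), ((1, 2, 1), (1, 0, 1)),
    ((1, 2, 1), (2, 1, 0)), ((1, 2, 1), (3, 1, 1)),
    ((1, 2, 2), (0, 3, 3)), ((1, 2, 2), (3, 1, 3)),
    ((1, 2, 2), (3, 2, 0)), ((1, 2, 3), (1, 3, 0)),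
    ((1, 2, 3), (2, 2, 2)), ((1, 2, 3), (3, 1, 2)),
    ((1, 3, 1), (1, 0, 1)), ((1, 3, 1), (2, 1, 1)),
    ((1, 3, 1), (3, 1, 0)), ((1, 3, 2), (1, 2, 0)),
    ((1, 3, 2), (2, 1, 3)), ((1, 3, 2), (3, 3, 3)),
    ((1, 3, 3), (0, 2, 2)), ((1, 3, 3), (2, 1, 2)),
    ((1, 3, 3), (2, 3, 0))],
[
    ((0, 0, 1), (0, 1, 0)), ((0, 0, 1), (1, 2, 0)),
    ((0, 0, 1), (1, 3, 0)), ((0, 1, 0), (0, 0, 1)),
    ((0, 1, 0), (1, 0, 2)), ((0, 1, 0), (1, 0, 3)),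
    ((0, 1, 1), (0, 1, 1)), ((0, 1, 1), (1, 2, 2)),
    ((0, 1, 1), (1, 3, 3)), ((0, 1, 2), (1, 2, 1)),
    ((0, 1, 2), (2, 1, 3)), ((0, 1, 2), (3, 3, 2)),
    ((0, 1, 3), (1, 3, 1)), ((0, 1, 3), (2, 2, 3)),
    ((0, 1, 3), (3, 1, 2)), ((1, 0, 0), (0, 0, 1)),
    ((1, 0, 0), (0, 1, 0)), ((1, 0, 0), (0, 1, 1)),
    ((1, 0, 1), (0, 1, 0)), ((1, 0, 1), (1, 2, 1)),
    ((1, 0, 1), (1, 3, 1)), ((1, 1, 0), (0, 0, 1)),
    ((1, 1, 0), (1, 1, 2)), ((1, 1, 0), (1, 1, 3)),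
    ((1, 1, 1), (0, 1, 1)), ((1, 1, 1), (1, 2, 3)),
    ((1, 1, 1), (1, 3, 2)), ((1, 1, 2), (1, 3, 1)),
    ((1, 1, 2), (2, 3, 3)), ((1, 1, 2), (3, 0, 2)),
    ((1, 1, 3), (1, 2, 1)), ((1, 1, 3), (2, 0, 3)),
    ((1, 1, 3), (3, 2, 2)), ((1, 2, 1), (1, 1, 3)),
    ((1, 2, 1), (2, 3, 3)), ((1, 2, 1), (3, 2, 0)),
    ((1, 2, 3), (1, 2, 3)), ((1, 2, 3), (2, 0, 3)),
    ((1, 2, 3), (3, 2, 0)), ((1, 3, 1), (1, 1, 2)),
    ((1, 3, 1), (2, 3, 0)), ((1, 3, 1), (3, 2, 2)),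
    ((1, 3, 2), (1, 3, 2)), ((1, 3, 2), (2, 3, 0)),
    ((1, 3, 2), (3, 0, 2))]]

/-- The ovals. -/
def oval : Fin 2 → Fin 6 → V :=
  ![![(0, 0, 1), (0, 1, 1), (1, 0, 1), (1, 1, 1), (1, 2, 0), (1, 3, 0)],
    ![(1, 0, 2), (1, 0, 3), (1, 2, 0), (1, 2, 2), (1, 3, 0), (1, 3, 3)]]

/-- The dual basis of the first three points of an oval. -/
def dual : Fin 2 → Fin 3 → V :=
  ![![(1, 1, 1), (0, 1, 0), (1, 0, 0)], ![(3, 2, 1), (2, 1, 1), (0, 3, 0)]]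

/-- The double transposition of each transvection on its oval. -/
def cycles : Fin 2 → List (Fin 6 × Fin 6 × Fin 6 × Fin 6) :=
  ![[
    (0, 1, 2, 3), (2, 3, 4, 5), (0, 1, 4, 5), (0, 1, 2, 5), (0, 1, 3, 4), (2, 5, 3, 4),
    (0, 1, 2, 4), (2, 4, 3, 5), (0, 1, 3, 5), (0, 2, 1, 3), (1, 3, 4, 5), (0, 2, 4, 5),
    (1, 4, 3, 5), (0, 2, 1, 4), (0, 2, 3, 5), (1, 5, 3, 4), (0, 2, 1, 5), (0, 2, 3, 4),
    (0, 3, 1, 2), (1, 2, 4, 5), (0, 3, 4, 5), (0, 3, 2, 4), (0, 3, 1, 5), (1, 5, 2, 4),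
    (0, 3, 2, 5), (1, 4, 2, 5), (0, 3, 1, 4), (0, 4, 1, 5), (1, 5, 2, 3), (0, 4, 2, 3),
    (0, 4, 2, 5), (0, 4, 1, 3), (1, 3, 2, 5), (1, 2, 3, 5), (0, 4, 3, 5), (0, 4, 1, 2),
    (0, 5, 1, 4), (0, 5, 2, 3), (1, 4, 2, 3), (1, 2, 3, 4), (0, 5, 1, 2), (0, 5, 3, 4),
    (0, 5, 2, 4), (0, 5, 1, 3), (1, 3, 2, 4)],
[
    (2, 3, 4, 5), (0, 1, 2, 3), (0, 1, 4, 5), (0, 3, 1, 5), (0, 3, 2, 4), (1, 5, 2, 4),
    (0, 2, 1, 4), (0, 2, 3, 5), (1, 4, 3, 5), (0, 5, 1, 2), (0, 5, 3, 4), (1, 2, 3, 4),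
    (0, 4, 1, 3), (0, 4, 2, 5), (1, 3, 2, 5), (0, 1, 3, 5), (2, 4, 3, 5), (0, 1, 2, 4),
    (2, 5, 3, 4), (0, 1, 2, 5), (0, 1, 3, 4), (0, 5, 1, 3), (0, 5, 2, 4), (1, 3, 2, 4),
    (0, 4, 1, 2), (1, 2, 3, 5), (0, 4, 3, 5), (0, 3, 1, 4), (0, 3, 2, 5), (1, 4, 2, 5),
    (0, 2, 1, 5), (0, 2, 3, 4), (1, 5, 3, 4), (1, 4, 2, 3), (0, 5, 2, 3), (0, 5, 1, 4),
    (1, 5, 2, 3), (0, 4, 2, 3), (0, 4, 1, 5), (0, 2, 4, 5), (0, 2, 1, 3), (1, 3, 4, 5),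
    (0, 3, 4, 5), (0, 3, 1, 2), (1, 2, 4, 5)]]

/-- Every even permutation as a product of two of them, by increasing code. -/
def pairs : Fin 2 → List (Nat × Nat) :=
  ![[
    (0, 27), (38, 40), (12, 37), (2, 27), (6, 27), (3, 27), (4, 27), (38, 43), (5, 36), (8, 27),
    (14, 25), (7, 36), (38, 41), (6, 22), (9, 30), (6, 16), (11, 30), (2, 23), (36, 44), (0, 15),
    (7, 37), (7, 40), (1, 41), (8, 23), (4, 22), (36, 39), (5, 43), (38, 42), (0, 23), (1, 42),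
    (4, 16), (20, 34), (3, 15), (18, 34), (2, 15), (5, 37), (8, 22), (0, 22), (3, 22), (0, 16),
    (14, 24), (8, 28), (3, 16), (0, 28), (5, 41), (8, 16), (7, 42), (3, 28), (2, 22), (1, 43),
    (11, 32), (1, 40), (2, 28), (7, 41), (2, 16), (1, 37), (3, 23), (20, 33), (8, 15), (5, 42),
    (0, 36), (15, 29), (28, 35), (2, 36), (6, 36), (3, 36), (4, 36), (17, 23), (5, 27), (8, 36),
    (28, 31), (7, 27), (15, 21), (6, 43), (18, 25), (6, 40), (19, 25), (2, 42), (17, 27), (0, 41),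
    (7, 28), (7, 16), (1, 15), (8, 42), (4, 43), (17, 28), (5, 22), (17, 22), (0, 42), (1, 23),
    (4, 40), (10, 12), (3, 41), (9, 12), (2, 41), (5, 28), (8, 43), (0, 43), (3, 43), (0, 40),
    (27, 29), (8, 37), (3, 40), (0, 37), (5, 15), (8, 40), (7, 23), (3, 37), (2, 43), (1, 22),
    (19, 24), (1, 16), (2, 37), (7, 15), (2, 40), (1, 28), (3, 42), (10, 14), (8, 41), (5, 23),
    (28, 34), (9, 42), (3, 26), (3, 13), (2, 25), (11, 42), (5, 35), (1, 34), (4, 25), (27, 32),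
    (0, 12), (5, 29), (12, 24), (18, 23), (3, 31), (3, 35), (2, 30), (19, 23), (5, 13), (1, 12),
    (4, 30), (14, 36), (0, 34), (5, 38), (5, 18), (7, 20), (4, 32), (5, 9), (7, 10), (4, 24),
    (3, 39), (3, 17), (1, 7), (7, 11), (7, 19), (0, 7), (3, 9), (8, 32), (14, 37), (3, 18),
    (8, 24), (28, 33), (5, 17), (5, 39), (4, 5), (0, 33), (0, 14), (0, 8), (19, 22), (5, 21),
    (2, 32), (11, 43), (5, 44), (2, 24), (6, 19), (6, 11), (2, 3), (1, 14), (1, 33), (1, 8),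
    (8, 26), (7, 31), (27, 33), (28, 30), (1, 30), (0, 25), (18, 41), (2, 12), (7, 29), (7, 35),
    (20, 41), (6, 12), (8, 31), (7, 26), (14, 38), (14, 26), (1, 25), (0, 30), (9, 15), (2, 34),
    (7, 38), (7, 13), (10, 15), (6, 34), (7, 18), (8, 44), (5, 20), (7, 9), (8, 21), (5, 10),
    (5, 11), (5, 19), (0, 5), (6, 33), (6, 14), (1, 5), (8, 9), (7, 21), (0, 32), (8, 18),
    (7, 44), (0, 24), (3, 33), (3, 14), (0, 3), (12, 13), (28, 32), (6, 7), (20, 40), (4, 10),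
    (1, 24), (10, 16), (4, 20), (1, 32), (7, 17), (7, 39), (1, 3), (2, 33), (2, 14), (2, 8),
    (2, 26), (1, 31), (11, 44), (1, 35), (2, 38), (5, 34), (2, 13), (1, 29), (6, 25), (20, 39),
    (4, 12), (7, 30), (2, 31), (1, 26), (19, 21), (1, 13), (2, 29), (5, 12), (2, 35), (1, 38),
    (6, 30), (10, 17), (4, 34), (7, 25), (19, 26), (7, 24), (2, 44), (11, 31), (7, 32), (2, 21),
    (3, 19), (3, 11), (2, 6), (1, 17), (1, 39), (1, 4), (20, 35), (8, 10), (1, 21), (10, 13),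
    (8, 20), (1, 44), (5, 14), (5, 33), (1, 6), (2, 39), (2, 17), (2, 4), (1, 18), (18, 19),
    (0, 10), (1, 9), (9, 11), (0, 20), (0, 19), (0, 11), (0, 2), (9, 10), (18, 20), (0, 1),
    (4, 26), (0, 26), (6, 26), (0, 13), (17, 21), (4, 38), (6, 13), (0, 38), (7, 34), (4, 13),
    (5, 30), (6, 38), (4, 31), (0, 31), (6, 31), (0, 35), (36, 37), (4, 29), (6, 35), (0, 29),
    (7, 12), (4, 35), (5, 25), (6, 29), (6, 9), (4, 44), (17, 29), (6, 18), (4, 21), (38, 39),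
    (7, 14), (7, 33), (7, 8), (0, 39), (0, 17), (0, 4), (4, 9), (5, 24), (0, 44), (4, 18),
    (5, 32), (0, 21), (6, 39), (6, 17), (0, 6), (15, 16), (38, 44), (3, 5), (0, 9), (2, 10),
    (1, 20), (0, 18), (2, 20), (1, 10), (1, 11), (1, 19), (1, 2), (2, 19), (2, 11), (0, 0)],
[
    (0, 35), (9, 23), (6, 28), (2, 38), (9, 17), (6, 19), (8, 21), (11, 22), (6, 14), (10, 27),
    (7, 29), (4, 8), (9, 33), (3, 16), (13, 41), (13, 44), (13, 39), (2, 5), (11, 35), (1, 32),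
    (13, 42), (4, 25), (0, 10), (4, 15), (3, 26), (11, 34), (6, 18), (11, 21), (1, 5), (0, 22),
    (9, 20), (9, 11), (9, 31), (10, 43), (2, 32), (4, 26), (3, 15), (1, 3), (3, 25), (1, 30),
    (7, 28), (9, 40), (10, 11), (1, 36), (6, 29), (14, 34), (4, 16), (7, 19), (2, 3), (0, 21),
    (12, 39), (0, 9), (2, 36), (10, 37), (2, 30), (0, 34), (5, 35), (10, 24), (12, 42), (7, 18),
    (0, 38), (4, 32), (14, 26), (2, 35), (13, 30), (5, 24), (3, 20), (3, 31), (3, 11), (12, 15),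
    (12, 25), (5, 12), (4, 30), (3, 17), (5, 43), (9, 29), (3, 4), (2, 22), (4, 36), (1, 10),
    (11, 29), (5, 40), (0, 32), (3, 23), (8, 42), (4, 38), (3, 24), (3, 37), (1, 22), (0, 5),
    (9, 18), (8, 41), (10, 30), (8, 39), (2, 10), (8, 44), (4, 5), (1, 21), (7, 36), (1, 9),
    (14, 25), (14, 15), (9, 19), (1, 34), (3, 43), (9, 28), (5, 23), (3, 40), (2, 21), (0, 3),
    (5, 27), (0, 30), (2, 34), (14, 16), (2, 9), (0, 36), (6, 44), (6, 41), (10, 38), (5, 33),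
    (14, 24), (13, 40), (12, 19), (6, 22), (2, 29), (12, 14), (3, 18), (0, 26), (12, 28), (14, 37),
    (1, 8), (7, 22), (6, 34), (5, 42), (12, 18), (5, 39), (2, 13), (5, 44), (6, 21), (0, 8),
    (13, 27), (7, 35), (1, 26), (5, 41), (3, 13), (13, 31), (13, 20), (6, 10), (11, 36), (12, 29),
    (10, 19), (9, 32), (0, 16), (10, 28), (14, 33), (1, 16), (3, 19), (14, 43), (7, 34), (7, 21),
    (9, 36), (12, 13), (6, 35), (3, 28), (9, 30), (1, 25), (1, 7), (1, 15), (3, 29), (4, 39),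
    (2, 14), (13, 23), (8, 18), (2, 28), (13, 17), (9, 38), (2, 19), (0, 7), (0, 25), (0, 15),
    (10, 41), (5, 26), (14, 38), (12, 36), (0, 13), (1, 29), (10, 44), (2, 8), (10, 39), (6, 16),
    (10, 42), (7, 17), (12, 32), (4, 35), (7, 33), (7, 27), (0, 29), (1, 13), (8, 40), (2, 26),
    (14, 32), (6, 15), (6, 7), (6, 25), (4, 9), (3, 22), (7, 37), (5, 7), (4, 21), (5, 25),
    (4, 34), (8, 23), (1, 18), (6, 26), (7, 24), (0, 18), (9, 15), (4, 22), (1, 14), (14, 30),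
    (5, 16), (1, 28), (3, 34), (7, 43), (1, 19), (6, 8), (14, 36), (3, 21), (9, 26), (3, 35),
    (0, 28), (8, 31), (8, 20), (0, 14), (13, 16), (11, 41), (0, 19), (2, 25), (2, 7), (2, 15),
    (2, 27), (0, 12), (13, 21), (0, 24), (2, 33), (4, 18), (2, 6), (0, 37), (9, 39), (9, 42),
    (8, 38), (13, 34), (2, 12), (0, 27), (3, 44), (0, 6), (2, 37), (8, 36), (2, 24), (0, 33),
    (13, 35), (8, 30), (3, 41), (11, 16), (5, 28), (10, 16), (2, 23), (12, 22), (14, 44), (2, 4),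
    (6, 38), (5, 19), (2, 17), (0, 31), (0, 11), (0, 20), (10, 25), (10, 15), (0, 4), (6, 32),
    (12, 35), (0, 23), (7, 42), (5, 18), (0, 17), (2, 11), (2, 31), (2, 20), (0, 43), (10, 26),
    (1, 41), (0, 40), (8, 32), (1, 42), (1, 44), (1, 39), (1, 2), (13, 22), (5, 29), (0, 1),
    (13, 14), (1, 27), (11, 37), (1, 6), (4, 31), (4, 20), (6, 17), (1, 33), (5, 38), (6, 23),
    (3, 32), (12, 43), (12, 20), (1, 12), (12, 31), (1, 24), (11, 23), (6, 43), (7, 8), (1, 37),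
    (4, 27), (4, 33), (6, 40), (11, 17), (11, 27), (6, 37), (3, 5), (12, 17), (4, 40), (11, 33),
    (5, 30), (4, 43), (6, 24), (1, 11), (1, 31), (1, 20), (4, 24), (3, 38), (1, 23), (6, 20),
    (6, 31), (1, 4), (11, 40), (12, 33), (1, 17), (4, 37), (9, 10), (12, 27), (1, 40), (2, 41),
    (0, 42), (1, 43), (2, 42), (0, 41), (0, 39), (0, 44), (0, 2), (2, 44), (2, 39), (0, 0)]]

/-- The certificates. -/
def certs : List Cert :=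
  [⟨((0, 1, 3), (2, 3, 1)),
    [(1, 0), (3, 0), (1, 3), (3, 4), (5, 6), (5, 7)],
    none, 8, 9, 2⟩,
  ⟨((0, 1, 3), (2, 1, 2)),
    [(1, 0), (3, 0), (3, 1), (4, 3), (5, 6), (5, 7)],
    none, 8, 9, 3⟩,
  ⟨((0, 1, 3), (3, 2, 3)),
    [(1, 0), (0, 1), (3, 0), (0, 3), (3, 1), (3, 2), (2, 3), (4, 3), (3, 4), (5, 3),
    (0, 6), (6, 1), (1, 6), (2, 6), (6, 4), (7, 1), (7, 2), (7, 4), (4, 7), (7, 5),
    (5, 7), (2, 8), (4, 8), (8, 6), (6, 8), (4, 9), (9, 7), (1, 10), (10, 4), (0, 11),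
    (11, 5), (11, 6), (12, 7), (13, 12), (12, 13), (14, 12), (12, 14), (7, 15), (15, 14), (16, 8),
    (16, 13)],
    some 0, 0, 0, 0⟩,
  ⟨((0, 1, 3), (3, 1, 2)),
    [(1, 0), (0, 1), (3, 0), (0, 3), (3, 1), (1, 3), (3, 2), (2, 3), (4, 3), (5, 3),
    (0, 6), (6, 1), (2, 6), (6, 4), (4, 6), (7, 1), (1, 7), (7, 2), (7, 4), (7, 5),
    (5, 7), (1, 8), (2, 8), (8, 6), (8, 7), (0, 9), (9, 4), (9, 5), (9, 6), (10, 7),
    (10, 9), (12, 6), (6, 12), (13, 8), (8, 13), (14, 8), (8, 14), (2, 15), (9, 15), (7, 17),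
    (17, 14)],
    some 1, 0, 0, 0⟩,
  ⟨((0, 1, 3), (1, 2, 3)),
    [(1, 0), (0, 1), (3, 0), (3, 1), (3, 2), (2, 3), (4, 3), (3, 4), (5, 3), (3, 5),
    (6, 1), (1, 6), (2, 6), (6, 4), (5, 6), (0, 7), (2, 7), (4, 7), (2, 8), (4, 8),
    (5, 8), (0, 9), (1, 9), (9, 4), (9, 5), (10, 5), (5, 10), (0, 11), (11, 6), (6, 11),
    (4, 12), (12, 11), (13, 7), (7, 13), (13, 10), (2, 14), (10, 14), (15, 8), (9, 15), (15, 13),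
    (16, 7)],
    some 0, 0, 0, 0⟩,
  ⟨((0, 1, 3), (1, 3, 1)),
    [(1, 0), (0, 1), (3, 0), (3, 1), (1, 3), (3, 2), (2, 3), (4, 3), (5, 3), (3, 5),
    (6, 1), (2, 6), (6, 4), (4, 6), (5, 6), (0, 7), (1, 7), (2, 7), (7, 6), (6, 7),
    (8, 2), (8, 4), (4, 8), (8, 5), (5, 8), (5, 9), (9, 8), (0, 10), (10, 5), (0, 11),
    (1, 12), (12, 7), (13, 8), (13, 11), (11, 13), (2, 14), (12, 14), (15, 4), (15, 7), (15, 8),
    (15, 11)],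
    some 1, 0, 0, 0⟩,
  ⟨((0, 1, 2), (3, 1, 3)),
    [(1, 0), (3, 0), (3, 1), (4, 3), (5, 6), (5, 7)],
    none, 8, 9, 2⟩,
  ⟨((0, 1, 2), (3, 2, 1)),
    [(1, 0), (3, 0), (1, 3), (3, 4), (5, 6), (5, 7)],
    none, 8, 9, 3⟩,
  ⟨((0, 1, 2), (1, 3, 2)),
    [(1, 0), (0, 1), (3, 0), (3, 1), (3, 2), (2, 3), (4, 3), (3, 4), (5, 3), (3, 5),
    (6, 1), (1, 6), (2, 6), (6, 4), (5, 6), (0, 7), (2, 7), (4, 7), (2, 8), (4, 8),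
    (5, 8), (0, 9), (1, 9), (9, 4), (9, 5), (10, 5), (5, 10), (0, 11), (11, 6), (6, 11),
    (4, 12), (12, 11), (13, 7), (7, 13), (13, 10), (2, 14), (10, 14), (15, 8), (9, 15), (15, 13),
    (16, 7)],
    some 0, 0, 0, 0⟩,
  ⟨((0, 1, 2), (1, 2, 1)),
    [(1, 0), (0, 1), (3, 0), (3, 1), (1, 3), (3, 2), (2, 3), (4, 3), (5, 3), (3, 5),
    (6, 1), (2, 6), (6, 4), (4, 6), (5, 6), (0, 7), (1, 7), (2, 7), (7, 6), (6, 7),
    (8, 2), (8, 4), (4, 8), (8, 5), (5, 8), (5, 9), (9, 8), (0, 10), (10, 5), (0, 11),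
    (1, 12), (12, 7), (13, 8), (13, 11), (11, 13), (2, 14), (12, 14), (15, 4), (15, 7), (15, 8),
    (15, 11)],
    some 1, 0, 0, 0⟩,
  ⟨((0, 1, 2), (2, 3, 2)),
    [(1, 0), (0, 1), (3, 0), (0, 3), (3, 1), (3, 2), (2, 3), (4, 3), (3, 4), (5, 3),
    (0, 6), (6, 1), (1, 6), (2, 6), (6, 4), (7, 1), (7, 2), (7, 4), (4, 7), (7, 5),
    (5, 7), (2, 8), (4, 8), (8, 6), (6, 8), (4, 9), (9, 7), (1, 10), (10, 4), (0, 11),
    (11, 5), (11, 6), (12, 7), (13, 12), (12, 13), (14, 12), (12, 14), (7, 15), (15, 14), (16, 8),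
    (16, 13)],
    some 0, 0, 0, 0⟩,
  ⟨((0, 1, 2), (2, 1, 3)),
    [(1, 0), (0, 1), (3, 0), (0, 3), (3, 1), (1, 3), (3, 2), (2, 3), (4, 3), (5, 3),
    (0, 6), (6, 1), (2, 6), (6, 4), (4, 6), (7, 1), (1, 7), (7, 2), (7, 4), (7, 5),
    (5, 7), (1, 8), (2, 8), (8, 6), (8, 7), (0, 9), (9, 4), (9, 5), (9, 6), (10, 7),
    (10, 9), (12, 6), (6, 12), (13, 8), (8, 13), (14, 8), (8, 14), (2, 15), (9, 15), (7, 17),
    (17, 14)],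
    some 1, 0, 0, 0⟩,
  ⟨((1, 2, 1), (1, 2, 2)),
    [(1, 0), (3, 0), (1, 3), (3, 4), (5, 6), (5, 7)],
    none, 8, 9, 2⟩,
  ⟨((1, 2, 1), (1, 3, 0)),
    [(1, 0), (3, 0), (3, 1), (4, 3), (5, 6), (5, 7)],
    none, 8, 9, 3⟩,
  ⟨((1, 2, 1), (2, 1, 0)),
    [(1, 0), (0, 1), (3, 0), (0, 3), (3, 1), (3, 2), (2, 3), (4, 3), (3, 4), (5, 3),
    (0, 6), (6, 1), (1, 6), (2, 6), (6, 4), (7, 1), (7, 2), (7, 4), (4, 7), (7, 5),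
    (5, 7), (2, 8), (4, 8), (8, 6), (6, 8), (4, 9), (9, 7), (1, 10), (10, 4), (0, 11),
    (11, 5), (11, 6), (12, 7), (13, 12), (12, 13), (14, 12), (12, 14), (7, 15), (15, 14), (16, 8),
    (16, 13)],
    some 0, 0, 0, 0⟩,
  ⟨((1, 2, 1), (2, 3, 3)),
    [(1, 0), (0, 1), (3, 0), (0, 3), (3, 1), (1, 3), (3, 2), (2, 3), (4, 3), (5, 3),
    (0, 6), (6, 1), (2, 6), (6, 4), (4, 6), (7, 1), (1, 7), (7, 2), (7, 4), (7, 5),
    (5, 7), (1, 8), (2, 8), (8, 6), (8, 7), (0, 9), (9, 4), (9, 5), (9, 6), (10, 7),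
    (10, 9), (12, 6), (6, 12), (13, 8), (8, 13), (14, 8), (8, 14), (2, 15), (9, 15), (7, 17),
    (17, 14)],
    some 1, 0, 0, 0⟩,
  ⟨((1, 2, 1), (3, 1, 1)),
    [(1, 0), (0, 1), (3, 0), (3, 1), (3, 2), (2, 3), (4, 3), (3, 4), (5, 3), (3, 5),
    (6, 1), (1, 6), (2, 6), (6, 4), (5, 6), (0, 7), (2, 7), (4, 7), (2, 8), (4, 8),
    (5, 8), (0, 9), (1, 9), (9, 4), (9, 5), (10, 5), (5, 10), (0, 11), (11, 6), (6, 11),
    (4, 12), (12, 11), (13, 7), (7, 13), (13, 10), (2, 14), (10, 14), (15, 8), (9, 15), (15, 13),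
    (16, 7)],
    some 0, 0, 0, 0⟩,
  ⟨((1, 2, 1), (3, 2, 0)),
    [(1, 0), (0, 1), (3, 0), (3, 1), (1, 3), (3, 2), (2, 3), (4, 3), (5, 3), (3, 5),
    (6, 1), (2, 6), (6, 4), (4, 6), (5, 6), (0, 7), (1, 7), (2, 7), (7, 6), (6, 7),
    (8, 2), (8, 4), (4, 8), (8, 5), (5, 8), (5, 9), (9, 8), (0, 10), (10, 5), (0, 11),
    (1, 12), (12, 7), (13, 8), (13, 11), (11, 13), (2, 14), (12, 14), (15, 4), (15, 7), (15, 8),
    (15, 11)],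
    some 1, 0, 0, 0⟩,
  ⟨((1, 3, 1), (1, 2, 0)),
    [(1, 0), (3, 0), (3, 1), (4, 3), (5, 6), (5, 7)],
    none, 8, 9, 2⟩,
  ⟨((1, 3, 1), (1, 3, 3)),
    [(1, 0), (3, 0), (1, 3), (3, 4), (5, 6), (5, 7)],
    none, 8, 9, 3⟩,
  ⟨((1, 3, 1), (2, 1, 1)),
    [(1, 0), (0, 1), (3, 0), (3, 1), (3, 2), (2, 3), (4, 3), (3, 4), (5, 3), (3, 5),
    (6, 1), (1, 6), (2, 6), (6, 4), (5, 6), (0, 7), (2, 7), (4, 7), (2, 8), (4, 8),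
    (5, 8), (0, 9), (1, 9), (9, 4), (9, 5), (10, 5), (5, 10), (0, 11), (11, 6), (6, 11),
    (4, 12), (12, 11), (13, 7), (7, 13), (13, 10), (2, 14), (10, 14), (15, 8), (9, 15), (15, 13),
    (16, 7)],
    some 0, 0, 0, 0⟩,
  ⟨((1, 3, 1), (2, 3, 0)),
    [(1, 0), (0, 1), (3, 0), (3, 1), (1, 3), (3, 2), (2, 3), (4, 3), (5, 3), (3, 5),
    (6, 1), (2, 6), (6, 4), (4, 6), (5, 6), (0, 7), (1, 7), (2, 7), (7, 6), (6, 7),
    (8, 2), (8, 4), (4, 8), (8, 5), (5, 8), (5, 9), (9, 8), (0, 10), (10, 5), (0, 11),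
    (1, 12), (12, 7), (13, 8), (13, 11), (11, 13), (2, 14), (12, 14), (15, 4), (15, 7), (15, 8),
    (15, 11)],
    some 1, 0, 0, 0⟩,
  ⟨((1, 3, 1), (3, 1, 0)),
    [(1, 0), (0, 1), (3, 0), (0, 3), (3, 1), (3, 2), (2, 3), (4, 3), (3, 4), (5, 3),
    (0, 6), (6, 1), (1, 6), (2, 6), (6, 4), (7, 1), (7, 2), (7, 4), (4, 7), (7, 5),
    (5, 7), (2, 8), (4, 8), (8, 6), (6, 8), (4, 9), (9, 7), (1, 10), (10, 4), (0, 11),
    (11, 5), (11, 6), (12, 7), (13, 12), (12, 13), (14, 12), (12, 14), (7, 15), (15, 14), (16, 8),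
    (16, 13)],
    some 0, 0, 0, 0⟩,
  ⟨((1, 3, 1), (3, 2, 2)),
    [(1, 0), (0, 1), (3, 0), (0, 3), (3, 1), (1, 3), (3, 2), (2, 3), (4, 3), (5, 3),
    (0, 6), (6, 1), (2, 6), (6, 4), (4, 6), (7, 1), (1, 7), (7, 2), (7, 4), (7, 5),
    (5, 7), (1, 8), (2, 8), (8, 6), (8, 7), (0, 9), (9, 4), (9, 5), (9, 6), (10, 7),
    (10, 9), (12, 6), (6, 12), (13, 8), (8, 13), (14, 8), (8, 14), (2, 15), (9, 15), (7, 17),
    (17, 14)],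
    some 1, 0, 0, 0⟩,
  ⟨((1, 1, 3), (2, 3, 2)),
    [(1, 0), (3, 0), (1, 3), (3, 4), (5, 6), (5, 7)],
    none, 8, 9, 2⟩,
  ⟨((1, 1, 3), (2, 1, 1)),
    [(1, 0), (3, 0), (3, 1), (4, 3), (5, 6), (5, 7)],
    none, 8, 9, 3⟩,
  ⟨((1, 1, 3), (3, 2, 2)),
    [(1, 0), (0, 1), (3, 0), (0, 3), (3, 1), (3, 2), (2, 3), (4, 3), (3, 4), (5, 3),
    (0, 6), (6, 1), (1, 6), (2, 6), (6, 4), (7, 1), (7, 2), (7, 4), (4, 7), (7, 5),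
    (5, 7), (2, 8), (4, 8), (8, 6), (6, 8), (4, 9), (9, 7), (1, 10), (10, 4), (0, 11),
    (11, 5), (11, 6), (12, 7), (13, 12), (12, 13), (14, 12), (12, 14), (7, 15), (15, 14), (16, 8),
    (16, 13)],
    some 1, 0, 0, 0⟩,
  ⟨((1, 1, 3), (3, 1, 3)),
    [(1, 0), (0, 1), (3, 0), (0, 3), (3, 1), (1, 3), (3, 2), (2, 3), (4, 3), (5, 3),
    (0, 6), (6, 1), (2, 6), (6, 4), (4, 6), (7, 1), (1, 7), (7, 2), (7, 4), (7, 5),
    (5, 7), (1, 8), (2, 8), (8, 6), (8, 7), (0, 9), (9, 4), (9, 5), (9, 6), (10, 7),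
    (10, 9), (12, 6), (6, 12), (13, 8), (8, 13), (14, 8), (8, 14), (2, 15), (9, 15), (7, 17),
    (17, 14)],
    some 0, 0, 0, 0⟩,
  ⟨((1, 1, 3), (1, 2, 1)),
    [(1, 0), (0, 1), (3, 0), (3, 1), (3, 2), (2, 3), (4, 3), (3, 4), (5, 3), (3, 5),
    (6, 1), (1, 6), (2, 6), (6, 4), (5, 6), (0, 7), (2, 7), (4, 7), (2, 8), (4, 8),
    (5, 8), (0, 9), (1, 9), (9, 4), (9, 5), (10, 5), (5, 10), (0, 11), (11, 6), (6, 11),
    (4, 12), (12, 11), (13, 7), (7, 13), (13, 10), (2, 14), (10, 14), (15, 8), (9, 15), (15, 13),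
    (16, 7)],
    some 1, 0, 0, 0⟩,
  ⟨((1, 1, 3), (1, 3, 3)),
    [(1, 0), (0, 1), (3, 0), (3, 1), (1, 3), (3, 2), (2, 3), (4, 3), (5, 3), (3, 5),
    (6, 1), (2, 6), (6, 4), (4, 6), (5, 6), (0, 7), (1, 7), (2, 7), (7, 6), (6, 7),
    (8, 2), (8, 4), (4, 8), (8, 5), (5, 8), (5, 9), (9, 8), (0, 10), (10, 5), (0, 11),
    (1, 12), (12, 7), (13, 8), (13, 11), (11, 13), (2, 14), (12, 14), (15, 4), (15, 7), (15, 8),
    (15, 11)],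
    some 0, 0, 0, 0⟩,
  ⟨((1, 2, 3), (2, 3, 1)),
    [(1, 0), (3, 0), (3, 1), (4, 3), (5, 6), (5, 7)],
    none, 8, 9, 2⟩,
  ⟨((1, 2, 3), (2, 1, 0)),
    [(1, 0), (3, 0), (1, 3), (3, 4), (5, 6), (5, 7)],
    none, 8, 9, 3⟩,
  ⟨((1, 2, 3), (3, 2, 0)),
    [(1, 0), (0, 1), (3, 0), (3, 1), (3, 2), (2, 3), (4, 3), (3, 4), (5, 3), (3, 5),
    (6, 1), (1, 6), (2, 6), (6, 4), (5, 6), (0, 7), (2, 7), (4, 7), (2, 8), (4, 8),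
    (5, 8), (0, 9), (1, 9), (9, 4), (9, 5), (10, 5), (5, 10), (0, 11), (11, 6), (6, 11),
    (4, 12), (12, 11), (13, 7), (7, 13), (13, 10), (2, 14), (10, 14), (15, 8), (9, 15), (15, 13),
    (16, 7)],
    some 1, 0, 0, 0⟩,
  ⟨((1, 2, 3), (3, 1, 2)),
    [(1, 0), (0, 1), (3, 0), (3, 1), (1, 3), (3, 2), (2, 3), (4, 3), (5, 3), (3, 5),
    (6, 1), (2, 6), (6, 4), (4, 6), (5, 6), (0, 7), (1, 7), (2, 7), (7, 6), (6, 7),
    (8, 2), (8, 4), (4, 8), (8, 5), (5, 8), (5, 9), (9, 8), (0, 10), (10, 5), (0, 11),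
    (1, 12), (12, 7), (13, 8), (13, 11), (11, 13), (2, 14), (12, 14), (15, 4), (15, 7), (15, 8),
    (15, 11)],
    some 0, 0, 0, 0⟩,
  ⟨((1, 2, 3), (1, 2, 3)),
    [(1, 0), (0, 1), (3, 0), (0, 3), (3, 1), (3, 2), (2, 3), (4, 3), (3, 4), (5, 3),
    (0, 6), (6, 1), (1, 6), (2, 6), (6, 4), (7, 1), (7, 2), (7, 4), (4, 7), (7, 5),
    (5, 7), (2, 8), (4, 8), (8, 6), (6, 8), (4, 9), (9, 7), (1, 10), (10, 4), (0, 11),
    (11, 5), (11, 6), (12, 7), (13, 12), (12, 13), (14, 12), (12, 14), (7, 15), (15, 14), (16, 8),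
    (16, 13)],
    some 1, 0, 0, 0⟩,
  ⟨((1, 2, 3), (1, 3, 0)),
    [(1, 0), (0, 1), (3, 0), (0, 3), (3, 1), (1, 3), (3, 2), (2, 3), (4, 3), (5, 3),
    (0, 6), (6, 1), (2, 6), (6, 4), (4, 6), (7, 1), (1, 7), (7, 2), (7, 4), (7, 5),
    (5, 7), (1, 8), (2, 8), (8, 6), (8, 7), (0, 9), (9, 4), (9, 5), (9, 6), (10, 7),
    (10, 9), (12, 6), (6, 12), (13, 8), (8, 13), (14, 8), (8, 14), (2, 15), (9, 15), (7, 17),
    (17, 14)],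
    some 0, 0, 0, 0⟩,
  ⟨((1, 3, 2), (3, 1, 0)),
    [(1, 0), (3, 0), (1, 3), (3, 4), (5, 6), (5, 7)],
    none, 8, 9, 2⟩,
  ⟨((1, 3, 2), (3, 2, 1)),
    [(1, 0), (3, 0), (3, 1), (4, 3), (5, 6), (5, 7)],
    none, 8, 9, 3⟩,
  ⟨((1, 3, 2), (1, 3, 2)),
    [(1, 0), (0, 1), (3, 0), (0, 3), (3, 1), (3, 2), (2, 3), (4, 3), (3, 4), (5, 3),
    (0, 6), (6, 1), (1, 6), (2, 6), (6, 4), (7, 1), (7, 2), (7, 4), (4, 7), (7, 5),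
    (5, 7), (2, 8), (4, 8), (8, 6), (6, 8), (4, 9), (9, 7), (1, 10), (10, 4), (0, 11),
    (11, 5), (11, 6), (12, 7), (13, 12), (12, 13), (14, 12), (12, 14), (7, 15), (15, 14), (16, 8),
    (16, 13)],
    some 1, 0, 0, 0⟩,
  ⟨((1, 3, 2), (1, 2, 0)),
    [(1, 0), (0, 1), (3, 0), (0, 3), (3, 1), (1, 3), (3, 2), (2, 3), (4, 3), (5, 3),
    (0, 6), (6, 1), (2, 6), (6, 4), (4, 6), (7, 1), (1, 7), (7, 2), (7, 4), (7, 5),
    (5, 7), (1, 8), (2, 8), (8, 6), (8, 7), (0, 9), (9, 4), (9, 5), (9, 6), (10, 7),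
    (10, 9), (12, 6), (6, 12), (13, 8), (8, 13), (14, 8), (8, 14), (2, 15), (9, 15), (7, 17),
    (17, 14)],
    some 0, 0, 0, 0⟩,
  ⟨((1, 3, 2), (2, 3, 0)),
    [(1, 0), (0, 1), (3, 0), (3, 1), (3, 2), (2, 3), (4, 3), (3, 4), (5, 3), (3, 5),
    (6, 1), (1, 6), (2, 6), (6, 4), (5, 6), (0, 7), (2, 7), (4, 7), (2, 8), (4, 8),
    (5, 8), (0, 9), (1, 9), (9, 4), (9, 5), (10, 5), (5, 10), (0, 11), (11, 6), (6, 11),
    (4, 12), (12, 11), (13, 7), (7, 13), (13, 10), (2, 14), (10, 14), (15, 8), (9, 15), (15, 13),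
    (16, 7)],
    some 1, 0, 0, 0⟩,
  ⟨((1, 3, 2), (2, 1, 3)),
    [(1, 0), (0, 1), (3, 0), (3, 1), (1, 3), (3, 2), (2, 3), (4, 3), (5, 3), (3, 5),
    (6, 1), (2, 6), (6, 4), (4, 6), (5, 6), (0, 7), (1, 7), (2, 7), (7, 6), (6, 7),
    (8, 2), (8, 4), (4, 8), (8, 5), (5, 8), (5, 9), (9, 8), (0, 10), (10, 5), (0, 11),
    (1, 12), (12, 7), (13, 8), (13, 11), (11, 13), (2, 14), (12, 14), (15, 4), (15, 7), (15, 8),
    (15, 11)],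
    some 0, 0, 0, 0⟩,
  ⟨((1, 1, 2), (3, 1, 1)),
    [(1, 0), (3, 0), (3, 1), (4, 3), (5, 6), (5, 7)],
    none, 8, 9, 2⟩,
  ⟨((1, 1, 2), (3, 2, 3)),
    [(1, 0), (3, 0), (1, 3), (3, 4), (5, 6), (5, 7)],
    none, 8, 9, 3⟩,
  ⟨((1, 1, 2), (1, 3, 1)),
    [(1, 0), (0, 1), (3, 0), (3, 1), (3, 2), (2, 3), (4, 3), (3, 4), (5, 3), (3, 5),
    (6, 1), (1, 6), (2, 6), (6, 4), (5, 6), (0, 7), (2, 7), (4, 7), (2, 8), (4, 8),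
    (5, 8), (0, 9), (1, 9), (9, 4), (9, 5), (10, 5), (5, 10), (0, 11), (11, 6), (6, 11),
    (4, 12), (12, 11), (13, 7), (7, 13), (13, 10), (2, 14), (10, 14), (15, 8), (9, 15), (15, 13),
    (16, 7)],
    some 1, 0, 0, 0⟩,
  ⟨((1, 1, 2), (1, 2, 2)),
    [(1, 0), (0, 1), (3, 0), (3, 1), (1, 3), (3, 2), (2, 3), (4, 3), (5, 3), (3, 5),
    (6, 1), (2, 6), (6, 4), (4, 6), (5, 6), (0, 7), (1, 7), (2, 7), (7, 6), (6, 7),
    (8, 2), (8, 4), (4, 8), (8, 5), (5, 8), (5, 9), (9, 8), (0, 10), (10, 5), (0, 11),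
    (1, 12), (12, 7), (13, 8), (13, 11), (11, 13), (2, 14), (12, 14), (15, 4), (15, 7), (15, 8),
    (15, 11)],
    some 0, 0, 0, 0⟩,
  ⟨((1, 1, 2), (2, 3, 3)),
    [(1, 0), (0, 1), (3, 0), (0, 3), (3, 1), (3, 2), (2, 3), (4, 3), (3, 4), (5, 3),
    (0, 6), (6, 1), (1, 6), (2, 6), (6, 4), (7, 1), (7, 2), (7, 4), (4, 7), (7, 5),
    (5, 7), (2, 8), (4, 8), (8, 6), (6, 8), (4, 9), (9, 7), (1, 10), (10, 4), (0, 11),
    (11, 5), (11, 6), (12, 7), (13, 12), (12, 13), (14, 12), (12, 14), (7, 15), (15, 14), (16, 8),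
    (16, 13)],
    some 1, 0, 0, 0⟩,
  ⟨((1, 1, 2), (2, 1, 2)),
    [(1, 0), (0, 1), (3, 0), (0, 3), (3, 1), (1, 3), (3, 2), (2, 3), (4, 3), (5, 3),
    (0, 6), (6, 1), (2, 6), (6, 4), (4, 6), (7, 1), (1, 7), (7, 2), (7, 4), (7, 5),
    (5, 7), (1, 8), (2, 8), (8, 6), (8, 7), (0, 9), (9, 4), (9, 5), (9, 6), (10, 7),
    (10, 9), (12, 6), (6, 12), (13, 8), (8, 13), (14, 8), (8, 14), (2, 15), (9, 15), (7, 17),
    (17, 14)],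
    some 0, 0, 0, 0⟩]

end CfsgLib.Geo.D3.Four
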