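/-
For each transvection over four elements: membership in a set of forty-five, or the two indices of a clash
(found by computer, checked in `Cfsg.Agent.Geo.DimThree.Four.Checks`).
-/
import Cfsg.Agent.Geo.DimThree.Four.Model

set_option autoImplicit false
set_option maxRecDepth 10000

namespace CfsgLib.Geo.D3.Four

/-- The witnesses, grouped by centre. -/
def outs : Fin 2 → List (V × List (V × Nat × Nat × Nat)) :=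
  ![[
   ((0, 0, 1), [
    ((0, 1, 0), 2, 4, 8), ((0, 2, 0), 2, 1, 5), ((0, 3, 0), 2, 1, 7), ((1, 0, 0), 2, 12, 15),
    ((1, 1, 0), 2, 3, 6), ((1, 2, 0), 2, 0, 4), ((1, 3, 0), 2, 0, 8), ((2, 0, 0), 2, 10, 12),
    ((2, 1, 0), 2, 3, 8), ((2, 2, 0), 2, 1, 5), ((2, 3, 0), 2, 0, 6), ((3, 0, 0), 2, 10, 15),
    ((3, 1, 0), 2, 4, 6), ((3, 2, 0), 2, 0, 3), ((3, 3, 0), 2, 1, 7)]),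
   ((0, 1, 0), [
    ((0, 0, 1), 0, 0, 0), ((0, 0, 2), 1, 0, 0), ((0, 0, 3), 1, 0, 0), ((1, 0, 0), 0, 1, 0),
    ((1, 0, 1), 0, 2, 0), ((1, 0, 2), 2, 13, 32), ((1, 0, 3), 2, 13, 14), ((2, 0, 0), 1, 1, 0),
    ((2, 0, 1), 2, 12, 14), ((2, 0, 2), 1, 2, 0), ((2, 0, 3), 2, 12, 40), ((3, 0, 0), 1, 1, 0),
    ((3, 0, 1), 2, 12, 21), ((3, 0, 2), 2, 12, 13), ((3, 0, 3), 1, 2, 0)]),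
   ((0, 1, 1), [
    ((0, 1, 1), 2, 3, 6), ((0, 2, 2), 2, 1, 7), ((0, 3, 3), 2, 1, 5), ((1, 0, 0), 2, 12, 25),
    ((1, 1, 1), 2, 4, 8), ((1, 2, 2), 2, 0, 6), ((1, 3, 3), 2, 0, 3), ((2, 0, 0), 2, 10, 32),
    ((2, 1, 1), 2, 3, 8), ((2, 2, 2), 2, 1, 7), ((2, 3, 3), 2, 0, 4), ((3, 0, 0), 2, 10, 44),
    ((3, 1, 1), 2, 4, 6), ((3, 2, 2), 2, 0, 8), ((3, 3, 3), 2, 1, 5)]),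
   ((0, 1, 2), [
    ((0, 1, 3), 2, 9, 10), ((0, 2, 1), 2, 9, 11), ((0, 3, 2), 2, 10, 11), ((1, 0, 0), 1, 5, 0),
    ((1, 1, 3), 2, 9, 23), ((1, 2, 1), 1, 4, 0), ((1, 3, 2), 0, 3, 0), ((2, 0, 0), 1, 5, 0),
    ((2, 1, 3), 1, 3, 0), ((2, 2, 1), 2, 9, 34), ((2, 3, 2), 0, 4, 0), ((3, 0, 0), 0, 5, 0),
    ((3, 1, 3), 1, 4, 0), ((3, 2, 1), 1, 3, 0), ((3, 3, 2), 2, 10, 37)]),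
   ((0, 1, 3), [
    ((0, 1, 2), 2, 9, 10), ((0, 2, 3), 2, 10, 11), ((0, 3, 1), 2, 9, 11), ((1, 0, 0), 1, 7, 0),
    ((1, 1, 2), 2, 9, 25), ((1, 2, 3), 0, 6, 0), ((1, 3, 1), 1, 8, 0), ((2, 0, 0), 0, 7, 0),
    ((2, 1, 2), 1, 8, 0), ((2, 2, 3), 2, 10, 29), ((2, 3, 1), 1, 6, 0), ((3, 0, 0), 1, 7, 0),
    ((3, 1, 2), 1, 6, 0), ((3, 2, 3), 0, 8, 0), ((3, 3, 1), 2, 9, 41)]),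
   ((1, 0, 0), [
    ((0, 0, 1), 0, 9, 0), ((0, 0, 2), 1, 9, 0), ((0, 0, 3), 1, 9, 0), ((0, 1, 0), 0, 10, 0),
    ((0, 1, 1), 0, 11, 0), ((0, 1, 2), 2, 3, 38), ((0, 1, 3), 2, 3, 4), ((0, 2, 0), 1, 10, 0),
    ((0, 2, 1), 2, 4, 5), ((0, 2, 2), 1, 11, 0), ((0, 2, 3), 2, 3, 34), ((0, 3, 0), 1, 10, 0),
    ((0, 3, 1), 2, 4, 23), ((0, 3, 2), 2, 3, 5), ((0, 3, 3), 1, 11, 0)]),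
   ((1, 0, 1), [
    ((0, 1, 0), 2, 4, 26), ((0, 2, 0), 2, 1, 38), ((0, 3, 0), 2, 1, 28), ((1, 0, 1), 2, 12, 15),
    ((1, 1, 1), 2, 4, 31), ((1, 2, 1), 2, 0, 38), ((1, 3, 1), 2, 0, 28), ((2, 0, 2), 2, 3, 30),
    ((2, 1, 2), 2, 9, 16), ((2, 2, 2), 2, 1, 37), ((2, 3, 2), 2, 0, 29), ((3, 0, 3), 2, 3, 25),
    ((3, 1, 3), 2, 9, 13), ((3, 2, 3), 2, 0, 37), ((3, 3, 3), 2, 1, 29)]),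
   ((1, 0, 2), [
    ((0, 1, 0), 1, 12, 0), ((0, 2, 0), 1, 12, 0), ((0, 3, 0), 0, 12, 0), ((1, 0, 3), 2, 0, 1),
    ((1, 1, 3), 2, 0, 23), ((1, 2, 3), 1, 13, 0), ((1, 3, 3), 1, 14, 0), ((2, 0, 1), 2, 0, 2),
    ((2, 1, 1), 1, 14, 0), ((2, 2, 1), 2, 0, 41), ((2, 3, 1), 1, 13, 0), ((3, 0, 2), 2, 1, 2),
    ((3, 1, 2), 0, 13, 0), ((3, 2, 2), 0, 14, 0), ((3, 3, 2), 2, 1, 31)]),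
   ((1, 0, 3), [
    ((0, 1, 0), 1, 15, 0), ((0, 2, 0), 0, 15, 0), ((0, 3, 0), 1, 15, 0), ((1, 0, 2), 2, 0, 1),
    ((1, 1, 2), 2, 0, 25), ((1, 2, 2), 1, 17, 0), ((1, 3, 2), 1, 16, 0), ((2, 0, 3), 2, 1, 2),
    ((2, 1, 3), 0, 16, 0), ((2, 2, 3), 2, 1, 43), ((2, 3, 3), 0, 17, 0), ((3, 0, 1), 2, 0, 2),
    ((3, 1, 1), 1, 17, 0), ((3, 2, 1), 1, 16, 0), ((3, 3, 1), 2, 0, 34)]),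
   ((1, 1, 0), [
    ((0, 0, 1), 0, 18, 0), ((0, 0, 2), 1, 18, 0), ((0, 0, 3), 1, 18, 0), ((1, 1, 0), 0, 19, 0),
    ((1, 1, 1), 0, 20, 0), ((1, 1, 2), 2, 3, 29), ((1, 1, 3), 2, 3, 4), ((2, 2, 0), 1, 19, 0),
    ((2, 2, 1), 2, 3, 5), ((2, 2, 2), 1, 20, 0), ((2, 2, 3), 2, 4, 42), ((3, 3, 0), 1, 19, 0),
    ((3, 3, 1), 2, 3, 12), ((3, 3, 2), 2, 4, 5), ((3, 3, 3), 1, 20, 0)]),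
   ((1, 1, 1), [
    ((0, 1, 1), 2, 3, 40), ((0, 2, 2), 2, 1, 29), ((0, 3, 3), 2, 1, 37), ((1, 0, 1), 2, 12, 34),
    ((1, 1, 0), 2, 3, 16), ((1, 2, 3), 2, 0, 29), ((1, 3, 2), 2, 0, 37), ((2, 0, 2), 2, 3, 40),
    ((2, 1, 3), 2, 9, 43), ((2, 2, 0), 2, 1, 28), ((2, 3, 1), 2, 0, 38), ((3, 0, 3), 2, 3, 16),
    ((3, 1, 2), 2, 9, 31), ((3, 2, 1), 2, 0, 28), ((3, 3, 0), 2, 1, 38)]),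
   ((1, 1, 2), [
    ((0, 1, 3), 2, 0, 12), ((0, 2, 1), 2, 0, 30), ((0, 3, 2), 2, 1, 40), ((1, 0, 3), 2, 0, 1),
    ((1, 1, 0), 1, 23, 0), ((1, 2, 2), 0, 21, 0), ((1, 3, 1), 1, 22, 0), ((2, 0, 1), 2, 0, 2),
    ((2, 1, 2), 0, 22, 0), ((2, 2, 0), 1, 23, 0), ((2, 3, 3), 1, 21, 0), ((3, 0, 2), 2, 1, 2),
    ((3, 1, 1), 1, 21, 0), ((3, 2, 3), 1, 22, 0), ((3, 3, 0), 0, 23, 0)]),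
   ((1, 1, 3), [
    ((0, 1, 2), 2, 0, 15), ((0, 2, 3), 2, 1, 35), ((0, 3, 1), 2, 0, 42), ((1, 0, 2), 2, 0, 1),
    ((1, 1, 0), 1, 25, 0), ((1, 2, 1), 1, 26, 0), ((1, 3, 3), 0, 24, 0), ((2, 0, 3), 2, 1, 2),
    ((2, 1, 1), 1, 24, 0), ((2, 2, 0), 0, 25, 0), ((2, 3, 2), 1, 26, 0), ((3, 0, 1), 2, 0, 2),
    ((3, 1, 3), 0, 26, 0), ((3, 2, 2), 1, 24, 0), ((3, 3, 0), 1, 25, 0)]),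
   ((1, 2, 0), [
    ((0, 0, 1), 2, 13, 26), ((0, 0, 2), 2, 3, 16), ((0, 0, 3), 2, 3, 40), ((1, 3, 0), 2, 0, 9),
    ((1, 3, 1), 2, 0, 9), ((1, 3, 2), 2, 0, 9), ((1, 3, 3), 2, 0, 9), ((2, 1, 0), 2, 3, 40),
    ((2, 1, 1), 2, 3, 16), ((2, 1, 2), 2, 9, 18), ((2, 1, 3), 2, 9, 18), ((3, 2, 0), 2, 0, 18),
    ((3, 2, 1), 2, 0, 18), ((3, 2, 2), 2, 0, 18), ((3, 2, 3), 2, 0, 18)]),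
   ((1, 2, 1), [
    ((0, 1, 2), 2, 3, 20), ((0, 2, 3), 2, 4, 14), ((0, 3, 1), 2, 3, 44), ((1, 0, 1), 0, 27, 0),
    ((1, 1, 3), 2, 3, 4), ((1, 2, 2), 1, 29, 0), ((1, 3, 0), 1, 28, 0), ((2, 0, 2), 1, 27, 0),
    ((2, 1, 0), 0, 28, 0), ((2, 2, 1), 2, 3, 5), ((2, 3, 3), 1, 29, 0), ((3, 0, 3), 1, 27, 0),
    ((3, 1, 1), 0, 29, 0), ((3, 2, 0), 1, 28, 0), ((3, 3, 2), 2, 4, 5)]),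
   ((1, 2, 2), [
    ((0, 1, 1), 1, 30, 0), ((0, 2, 2), 1, 30, 0), ((0, 3, 3), 0, 30, 0), ((1, 0, 3), 2, 0, 1),
    ((1, 1, 2), 2, 0, 41), ((1, 2, 1), 1, 31, 0), ((1, 3, 0), 1, 32, 0), ((2, 0, 1), 2, 0, 2),
    ((2, 1, 0), 1, 32, 0), ((2, 2, 3), 2, 0, 23), ((2, 3, 2), 1, 31, 0), ((3, 0, 2), 2, 1, 2),
    ((3, 1, 3), 0, 31, 0), ((3, 2, 0), 0, 32, 0), ((3, 3, 1), 2, 1, 13)]),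
   ((1, 2, 3), [
    ((0, 1, 3), 2, 0, 42), ((0, 2, 1), 2, 1, 26), ((0, 3, 2), 2, 0, 15), ((1, 0, 2), 2, 0, 1),
    ((1, 1, 1), 1, 34, 0), ((1, 2, 3), 1, 35, 0), ((1, 3, 0), 0, 33, 0), ((2, 0, 3), 2, 1, 2),
    ((2, 1, 0), 1, 33, 0), ((2, 2, 2), 0, 34, 0), ((2, 3, 1), 1, 35, 0), ((3, 0, 1), 2, 0, 2),
    ((3, 1, 2), 0, 35, 0), ((3, 2, 0), 1, 33, 0), ((3, 3, 3), 1, 34, 0)]),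
   ((1, 3, 0), [
    ((0, 0, 1), 2, 13, 35), ((0, 0, 2), 2, 3, 24), ((0, 0, 3), 2, 3, 32), ((1, 2, 0), 2, 0, 9),
    ((1, 2, 1), 2, 0, 9), ((1, 2, 2), 2, 0, 9), ((1, 2, 3), 2, 0, 9), ((2, 3, 0), 2, 0, 18),
    ((2, 3, 1), 2, 0, 18), ((2, 3, 2), 2, 0, 18), ((2, 3, 3), 2, 0, 18), ((3, 1, 0), 2, 4, 31),
    ((3, 1, 1), 2, 4, 26), ((3, 1, 2), 2, 9, 18), ((3, 1, 3), 2, 9, 18)]),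
   ((1, 3, 1), [
    ((0, 1, 3), 2, 3, 4), ((0, 2, 1), 2, 4, 5), ((0, 3, 2), 2, 3, 5), ((1, 0, 1), 0, 36, 0),
    ((1, 1, 2), 2, 3, 10), ((1, 2, 0), 1, 38, 0), ((1, 3, 3), 1, 37, 0), ((2, 0, 2), 1, 36, 0),
    ((2, 1, 1), 0, 37, 0), ((2, 2, 3), 2, 3, 21), ((2, 3, 0), 1, 38, 0), ((3, 0, 3), 1, 36, 0),
    ((3, 1, 0), 0, 38, 0), ((3, 2, 2), 1, 37, 0), ((3, 3, 1), 2, 4, 33)]),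
   ((1, 3, 2), [
    ((0, 1, 2), 2, 0, 30), ((0, 2, 3), 2, 0, 12), ((0, 3, 1), 2, 1, 22), ((1, 0, 3), 2, 0, 1),
    ((1, 1, 1), 1, 41, 0), ((1, 2, 0), 0, 39, 0), ((1, 3, 2), 1, 40, 0), ((2, 0, 1), 2, 0, 2),
    ((2, 1, 3), 0, 40, 0), ((2, 2, 2), 1, 41, 0), ((2, 3, 0), 1, 39, 0), ((3, 0, 2), 2, 1, 2),
    ((3, 1, 0), 1, 39, 0), ((3, 2, 1), 1, 40, 0), ((3, 3, 3), 0, 41, 0)]),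
   ((1, 3, 3), [
    ((0, 1, 1), 1, 42, 0), ((0, 2, 2), 0, 42, 0), ((0, 3, 3), 1, 42, 0), ((1, 0, 2), 2, 0, 1),
    ((1, 1, 3), 2, 0, 34), ((1, 2, 0), 1, 44, 0), ((1, 3, 1), 1, 43, 0), ((2, 0, 3), 2, 1, 2),
    ((2, 1, 2), 0, 43, 0), ((2, 2, 1), 2, 1, 16), ((2, 3, 0), 0, 44, 0), ((3, 0, 1), 2, 0, 2),
    ((3, 1, 0), 1, 44, 0), ((3, 2, 3), 1, 43, 0), ((3, 3, 2), 2, 0, 25)])],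
  [
   ((0, 0, 1), [
    ((0, 1, 0), 0, 0, 0), ((0, 2, 0), 1, 0, 0), ((0, 3, 0), 1, 0, 0), ((1, 0, 0), 2, 4, 5),
    ((1, 1, 0), 2, 4, 8), ((1, 2, 0), 0, 1, 0), ((1, 3, 0), 0, 2, 0), ((2, 0, 0), 2, 3, 5),
    ((2, 1, 0), 1, 2, 0), ((2, 2, 0), 2, 3, 11), ((2, 3, 0), 1, 1, 0), ((3, 0, 0), 2, 3, 4),
    ((3, 1, 0), 1, 1, 0), ((3, 2, 0), 1, 2, 0), ((3, 3, 0), 2, 3, 13)]),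
   ((0, 1, 0), [
    ((0, 0, 1), 0, 3, 0), ((0, 0, 2), 1, 3, 0), ((0, 0, 3), 1, 3, 0), ((1, 0, 0), 2, 1, 2),
    ((1, 0, 1), 2, 1, 8), ((1, 0, 2), 0, 4, 0), ((1, 0, 3), 0, 5, 0), ((2, 0, 0), 2, 0, 2),
    ((2, 0, 1), 1, 5, 0), ((2, 0, 2), 2, 0, 12), ((2, 0, 3), 1, 4, 0), ((3, 0, 0), 2, 0, 1),
    ((3, 0, 1), 1, 4, 0), ((3, 0, 2), 1, 5, 0), ((3, 0, 3), 2, 0, 9)]),
   ((0, 1, 1), [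
    ((0, 1, 1), 0, 6, 0), ((0, 2, 2), 1, 6, 0), ((0, 3, 3), 1, 6, 0), ((1, 0, 0), 2, 1, 2),
    ((1, 1, 1), 2, 1, 5), ((1, 2, 2), 0, 7, 0), ((1, 3, 3), 0, 8, 0), ((2, 0, 0), 2, 0, 2),
    ((2, 1, 1), 1, 8, 0), ((2, 2, 2), 2, 0, 9), ((2, 3, 3), 1, 7, 0), ((3, 0, 0), 2, 0, 1),
    ((3, 1, 1), 1, 7, 0), ((3, 2, 2), 1, 8, 0), ((3, 3, 3), 2, 0, 12)]),
   ((0, 1, 2), [
    ((0, 1, 3), 2, 0, 3), ((0, 2, 1), 2, 1, 13), ((0, 3, 2), 2, 0, 6), ((1, 0, 0), 2, 1, 2),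
    ((1, 1, 3), 1, 11, 0), ((1, 2, 1), 0, 9, 0), ((1, 3, 2), 1, 10, 0), ((2, 0, 0), 2, 0, 2),
    ((2, 1, 3), 0, 10, 0), ((2, 2, 1), 1, 11, 0), ((2, 3, 2), 1, 9, 0), ((3, 0, 0), 2, 0, 1),
    ((3, 1, 3), 1, 9, 0), ((3, 2, 1), 1, 10, 0), ((3, 3, 2), 0, 11, 0)]),
   ((0, 1, 3), [
    ((0, 1, 2), 2, 0, 3), ((0, 2, 3), 2, 0, 6), ((0, 3, 1), 2, 1, 10), ((1, 0, 0), 2, 1, 2),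
    ((1, 1, 2), 1, 13, 0), ((1, 2, 3), 1, 14, 0), ((1, 3, 1), 0, 12, 0), ((2, 0, 0), 2, 0, 2),
    ((2, 1, 2), 1, 12, 0), ((2, 2, 3), 0, 13, 0), ((2, 3, 1), 1, 14, 0), ((3, 0, 0), 2, 0, 1),
    ((3, 1, 2), 0, 14, 0), ((3, 2, 3), 1, 12, 0), ((3, 3, 1), 1, 13, 0)]),
   ((1, 0, 0), [
    ((0, 0, 1), 0, 15, 0), ((0, 0, 2), 1, 15, 0), ((0, 0, 3), 1, 15, 0), ((0, 1, 0), 0, 16, 0),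
    ((0, 1, 1), 0, 17, 0), ((0, 1, 2), 2, 9, 41), ((0, 1, 3), 2, 9, 10), ((0, 2, 0), 1, 16, 0),
    ((0, 2, 1), 2, 10, 11), ((0, 2, 2), 1, 17, 0), ((0, 2, 3), 2, 9, 37), ((0, 3, 0), 1, 16, 0),
    ((0, 3, 1), 2, 10, 29), ((0, 3, 2), 2, 9, 11), ((0, 3, 3), 1, 17, 0)]),
   ((1, 0, 1), [
    ((0, 1, 0), 0, 18, 0), ((0, 2, 0), 1, 18, 0), ((0, 3, 0), 1, 18, 0), ((1, 0, 1), 2, 4, 5),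
    ((1, 1, 1), 2, 4, 25), ((1, 2, 1), 0, 19, 0), ((1, 3, 1), 0, 20, 0), ((2, 0, 2), 2, 3, 4),
    ((2, 1, 2), 1, 20, 0), ((2, 2, 2), 2, 3, 39), ((2, 3, 2), 1, 19, 0), ((3, 0, 3), 2, 3, 5),
    ((3, 1, 3), 1, 19, 0), ((3, 2, 3), 1, 20, 0), ((3, 3, 3), 2, 3, 33)]),
   ((1, 0, 2), [
    ((0, 1, 0), 2, 4, 28), ((0, 2, 0), 2, 4, 42), ((0, 3, 0), 2, 10, 34), ((1, 0, 3), 2, 0, 16),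
    ((1, 1, 3), 2, 0, 16), ((1, 2, 3), 2, 0, 16), ((1, 3, 3), 2, 0, 16), ((2, 0, 1), 2, 6, 30),
    ((2, 1, 1), 2, 3, 27), ((2, 2, 1), 2, 4, 43), ((2, 3, 1), 2, 7, 40), ((3, 0, 2), 2, 0, 18),
    ((3, 1, 2), 2, 0, 18), ((3, 2, 2), 2, 0, 18), ((3, 3, 2), 2, 0, 18)]),
   ((1, 0, 3), [
    ((0, 1, 0), 2, 4, 31), ((0, 2, 0), 2, 10, 42), ((0, 3, 0), 2, 4, 37), ((1, 0, 2), 2, 0, 16),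
    ((1, 1, 2), 2, 0, 16), ((1, 2, 2), 2, 0, 16), ((1, 3, 2), 2, 0, 16), ((2, 0, 3), 2, 0, 18),
    ((2, 1, 3), 2, 0, 18), ((2, 2, 3), 2, 0, 18), ((2, 3, 3), 2, 0, 18), ((3, 0, 1), 2, 6, 27),
    ((3, 1, 1), 2, 3, 30), ((3, 2, 1), 2, 7, 34), ((3, 3, 1), 2, 4, 37)]),
   ((1, 1, 0), [
    ((0, 0, 1), 0, 21, 0), ((0, 0, 2), 1, 21, 0), ((0, 0, 3), 1, 21, 0), ((1, 1, 0), 2, 1, 2),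
    ((1, 1, 1), 2, 1, 26), ((1, 1, 2), 0, 22, 0), ((1, 1, 3), 0, 23, 0), ((2, 2, 0), 2, 0, 1),
    ((2, 2, 1), 1, 23, 0), ((2, 2, 2), 2, 0, 30), ((2, 2, 3), 1, 22, 0), ((3, 3, 0), 2, 0, 2),
    ((3, 3, 1), 1, 22, 0), ((3, 3, 2), 1, 23, 0), ((3, 3, 3), 2, 0, 27)]),
   ((1, 1, 1), [
    ((0, 1, 1), 0, 24, 0), ((0, 2, 2), 1, 24, 0), ((0, 3, 3), 1, 24, 0), ((1, 0, 1), 2, 1, 22),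
    ((1, 1, 0), 2, 1, 2), ((1, 2, 3), 0, 25, 0), ((1, 3, 2), 0, 26, 0), ((2, 0, 2), 2, 0, 27),
    ((2, 1, 3), 1, 26, 0), ((2, 2, 0), 2, 0, 1), ((2, 3, 1), 1, 25, 0), ((3, 0, 3), 2, 0, 30),
    ((3, 1, 2), 1, 25, 0), ((3, 2, 1), 1, 26, 0), ((3, 3, 0), 2, 0, 2)]),
   ((1, 1, 2), [
    ((0, 1, 3), 2, 0, 21), ((0, 2, 1), 2, 1, 32), ((0, 3, 2), 2, 0, 24), ((1, 0, 3), 1, 29, 0),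
    ((1, 1, 0), 2, 1, 2), ((1, 2, 2), 1, 28, 0), ((1, 3, 1), 0, 27, 0), ((2, 0, 1), 1, 29, 0),
    ((2, 1, 2), 1, 27, 0), ((2, 2, 0), 2, 0, 1), ((2, 3, 3), 0, 28, 0), ((3, 0, 2), 0, 29, 0),
    ((3, 1, 1), 1, 28, 0), ((3, 2, 3), 1, 27, 0), ((3, 3, 0), 2, 0, 2)]),
   ((1, 1, 3), [
    ((0, 1, 2), 2, 0, 21), ((0, 2, 3), 2, 0, 24), ((0, 3, 1), 2, 1, 29), ((1, 0, 2), 1, 31, 0),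
    ((1, 1, 0), 2, 1, 2), ((1, 2, 1), 0, 30, 0), ((1, 3, 3), 1, 32, 0), ((2, 0, 3), 0, 31, 0),
    ((2, 1, 1), 1, 32, 0), ((2, 2, 0), 2, 0, 1), ((2, 3, 2), 1, 30, 0), ((3, 0, 1), 1, 31, 0),
    ((3, 1, 3), 1, 30, 0), ((3, 2, 2), 0, 32, 0), ((3, 3, 0), 2, 0, 2)]),
   ((1, 2, 0), [
    ((0, 0, 1), 2, 1, 34), ((0, 0, 2), 2, 1, 36), ((0, 0, 3), 2, 9, 43), ((1, 3, 0), 2, 3, 15),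
    ((1, 3, 1), 2, 1, 33), ((1, 3, 2), 2, 0, 37), ((1, 3, 3), 2, 3, 15), ((2, 1, 0), 2, 6, 39),
    ((2, 1, 1), 2, 0, 33), ((2, 1, 2), 2, 1, 37), ((2, 1, 3), 2, 7, 31), ((3, 2, 0), 2, 3, 21),
    ((3, 2, 1), 2, 0, 34), ((3, 2, 2), 2, 0, 36), ((3, 2, 3), 2, 3, 21)]),
   ((1, 2, 1), [
    ((0, 1, 2), 2, 4, 41), ((0, 2, 3), 2, 3, 24), ((0, 3, 1), 2, 3, 18), ((1, 0, 1), 2, 4, 5),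
    ((1, 1, 3), 0, 33, 0), ((1, 2, 2), 1, 34, 0), ((1, 3, 0), 1, 35, 0), ((2, 0, 2), 2, 3, 4),
    ((2, 1, 0), 1, 35, 0), ((2, 2, 1), 1, 33, 0), ((2, 3, 3), 0, 34, 0), ((3, 0, 3), 2, 3, 5),
    ((3, 1, 1), 1, 34, 0), ((3, 2, 0), 0, 35, 0), ((3, 3, 2), 1, 33, 0)]),
   ((1, 2, 2), [
    ((0, 1, 1), 2, 1, 37), ((0, 2, 2), 2, 1, 33), ((0, 3, 3), 2, 9, 30), ((1, 0, 3), 2, 6, 17),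
    ((1, 1, 2), 2, 0, 34), ((1, 2, 1), 2, 1, 36), ((1, 3, 0), 2, 6, 17), ((2, 0, 1), 2, 0, 36),
    ((2, 1, 0), 2, 3, 42), ((2, 2, 3), 2, 4, 28), ((2, 3, 2), 2, 1, 34), ((3, 0, 2), 2, 0, 33),
    ((3, 1, 3), 2, 3, 43), ((3, 2, 0), 2, 3, 27), ((3, 3, 1), 2, 0, 37)]),
   ((1, 2, 3), [
    ((0, 1, 3), 2, 6, 21), ((0, 2, 1), 2, 6, 18), ((0, 3, 2), 2, 7, 44), ((1, 0, 2), 1, 37, 0),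
    ((1, 1, 1), 2, 7, 8), ((1, 2, 3), 0, 36, 0), ((1, 3, 0), 1, 38, 0), ((2, 0, 3), 0, 37, 0),
    ((2, 1, 0), 1, 38, 0), ((2, 2, 2), 2, 6, 7), ((2, 3, 1), 1, 36, 0), ((3, 0, 1), 1, 37, 0),
    ((3, 1, 2), 1, 36, 0), ((3, 2, 0), 0, 38, 0), ((3, 3, 3), 2, 6, 8)]),
   ((1, 3, 0), [
    ((0, 0, 1), 2, 1, 40), ((0, 0, 2), 2, 9, 30), ((0, 0, 3), 2, 1, 43), ((1, 2, 0), 2, 3, 15),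
    ((1, 2, 1), 2, 1, 40), ((1, 2, 2), 2, 3, 15), ((1, 2, 3), 2, 0, 44), ((2, 3, 0), 2, 3, 21),
    ((2, 3, 1), 2, 0, 41), ((2, 3, 2), 2, 3, 21), ((2, 3, 3), 2, 0, 42), ((3, 1, 0), 2, 6, 33),
    ((3, 1, 1), 2, 0, 39), ((3, 1, 2), 2, 7, 28), ((3, 1, 3), 2, 1, 43)]),
   ((1, 3, 1), [
    ((0, 1, 3), 2, 4, 35), ((0, 2, 1), 2, 3, 18), ((0, 3, 2), 2, 3, 24), ((1, 0, 1), 2, 4, 5),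
    ((1, 1, 2), 0, 39, 0), ((1, 2, 0), 1, 40, 0), ((1, 3, 3), 1, 41, 0), ((2, 0, 2), 2, 3, 4),
    ((2, 1, 1), 1, 41, 0), ((2, 2, 3), 1, 39, 0), ((2, 3, 0), 0, 40, 0), ((3, 0, 3), 2, 3, 5),
    ((3, 1, 0), 1, 40, 0), ((3, 2, 2), 0, 41, 0), ((3, 3, 1), 1, 39, 0)]),
   ((1, 3, 2), [
    ((0, 1, 2), 2, 6, 21), ((0, 2, 3), 2, 7, 38), ((0, 3, 1), 2, 6, 18), ((1, 0, 3), 1, 44, 0),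
    ((1, 1, 1), 2, 7, 8), ((1, 2, 0), 1, 43, 0), ((1, 3, 2), 0, 42, 0), ((2, 0, 1), 1, 44, 0),
    ((2, 1, 3), 1, 42, 0), ((2, 2, 2), 2, 6, 7), ((2, 3, 0), 0, 43, 0), ((3, 0, 2), 0, 44, 0),
    ((3, 1, 0), 1, 43, 0), ((3, 2, 1), 1, 42, 0), ((3, 3, 3), 2, 6, 8)]),
   ((1, 3, 3), [
    ((0, 1, 1), 2, 1, 43), ((0, 2, 2), 2, 9, 35), ((0, 3, 3), 2, 1, 40), ((1, 0, 2), 2, 6, 17),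
    ((1, 1, 3), 2, 0, 41), ((1, 2, 0), 2, 6, 17), ((1, 3, 1), 2, 1, 43), ((2, 0, 3), 2, 0, 39),
    ((2, 1, 2), 2, 3, 38), ((2, 2, 1), 2, 0, 44), ((2, 3, 0), 2, 3, 30), ((3, 0, 1), 2, 0, 42),
    ((3, 1, 0), 2, 3, 36), ((3, 2, 3), 2, 1, 40), ((3, 3, 2), 2, 4, 31)])]]

end CfsgLib.Geo.D3.Four
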