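/-
The finite facts about the plane over four elements.
-/
import Cfsg.Agent.Geo.DimThree.Four.Data
import Cfsg.Agent.Geo.DimThree.Four.Outs
import Mathlib.Data.Fintype.Prod
import Mathlib.Data.Fintype.Perm

set_option autoImplicit false
set_option maxRecDepth 100000

namespace CfsgLib.Geo.D3.Four

/-- A certificate is valid: it ends in a clash, or it reaches all transvections of an oval. -/
def Cert.ok (c : Cert) : Bool :=
  match c.oval with
  | none => clash c.c ((derive c.x c.steps (gens c.x)).getD c.i c.x)
      ((derive c.x c.steps (gens c.x)).getD c.j c.x)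
  | some k => (tvs k).all fun s => (derive c.x c.steps (gens c.x)).contains s

/-- The further transvection with given coordinates. -/
def extra (v₀ v₁ f₀ f₁ : Fin 4) : T :=
  ((v₀, v₁, 1), (f₀, f₁, add (mul f₀ v₀) (mul f₁ v₁)))

theorem certs_ok : certs.all Cert.ok = true := by decide +kernel

theorem extra_covered : ∀ v₀ v₁ f₀ f₁ : Fin 4, v₁ ≠ 0 → v₁ ≠ 1 → f₀ ≠ 0 → f₁ ≠ 0 → f₁ ≠ f₀ →
    certs.any (fun c => c.x == normT (extra v₀ v₁ f₀ f₁)) = true := by decide +kernel

/-- The witness says that the transvection is in the set or is incompatible with it. -/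
def wit (k : Fin 2) (y : T) : Bool :=
  match (outs k).find? (fun g => g.1 == y.1) with
  | none => false
  | some g => match g.2.find? (fun e => e.1 == y.2) with
    | none => false
    | some (_, m, i, j) =>
      if i < 45 ∧ j < 45 then
        match m with
        | 0 => (tvs k).getD i y == y
        | 1 => flagClash y ((tvs k).getD i y)
        | _ => flagClash (conjT ((tvs k).getD i y) y) ((tvs k).getD j y)
      else false

theorem all_out : ∀ k : Fin 2, ∀ a b c d e f : Fin 4, (a, b, c) ≠ ((0, 0, 0) : V) →
    (d, e, f) ≠ ((0, 0, 0) : V) → dot (d, e, f) (a, b, c) = 0 → lead (a, b, c) = 1 →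
    wit k ((a, b, c), (d, e, f)) = true := by decide +kernel

/-- The double transposition attached to the `i`-th transvection. -/
def dt (k : Fin 2) (i : Nat) : Equiv.Perm (Fin 6) :=
  match (cycles k).getD i (0, 1, 2, 3) with
  | (a, b, c, d) => Equiv.swap a b * Equiv.swap c d

/-- Increasing. -/
def incr : List Nat → Bool
  | a :: b :: r => Nat.blt a b && incr (b :: r)
  | _ => true

theorem pairwise_of_incr : ∀ {l : List Nat}, incr l = true → l.Pairwise (· < ·)
  | [], _ => List.Pairwise.nil
  | [a], _ => List.pairwise_singleton _ _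
  | a :: b :: r, h => by
    rw [incr, Bool.and_eq_true, Nat.blt_eq] at h
    have ih := pairwise_of_incr h.2
    refine List.pairwise_cons.2 ⟨fun c hc => ?_, ih⟩
    rcases List.mem_cons.1 hc with rfl | hc
    · exact h.1
    · exact h.1.trans ((List.pairwise_cons.1 ih).1 c hc)

theorem oval_act : ∀ k : Fin 2, ∀ i < 45, ∀ p : Fin 6,
    normV (app ((tvs k).getD i ((0, 0, 0), (0, 0, 0))) (oval k p)) = oval k (dt k i p) := by
  decide +kernel

theorem cycles_ne : ∀ k : Fin 2, ∀ i < 45,
    ((cycles k).getD i (0, 1, 2, 3)).1 ≠ ((cycles k).getD i (0, 1, 2, 3)).2.1 ∧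
      ((cycles k).getD i (0, 1, 2, 3)).2.2.1 ≠ ((cycles k).getD i (0, 1, 2, 3)).2.2.2 := by
  decide +kernel

theorem tvs_length : ∀ k : Fin 2, (tvs k).length = 45 := by decide +kernel

theorem pairs_sorted : ∀ k : Fin 2,
    incr ((pairs k).map fun p => codeMul (dt k p.1) (dt k p.2)) = true ∧
      (pairs k).length = 360 ∧ ((pairs k).all fun p => decide (p.1 < 45) && decide (p.2 < 45)) = true := by
  decide +kernel

theorem oval_lead : ∀ k : Fin 2, ∀ p : Fin 6, lead (oval k p) = 1 := by decide +kernel

theorem oval_inj : ∀ k : Fin 2, ∀ p r : Fin 6, oval k p = oval k r → p = r := by decide +kernel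

theorem dual_oval : ∀ k : Fin 2, ∀ a b : Fin 3,
    dot (dual k a) (oval k (Fin.castLE (by decide) b)) = (if a = b then 1 else 0) ∧
      dot (dual k a) (oval k 3) ≠ 0 := by decide +kernel

theorem dual_expand : ∀ k : Fin 2, ∀ x : V,
    x = vadd (vadd (vsmul (dot (dual k 0) x) (oval k 0)) (vsmul (dot (dual k 1) x) (oval k 1)))
      (vsmul (dot (dual k 2) x) (oval k 2)) := by decide +kernel

end CfsgLib.Geo.D3.Four
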